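import Mathlib
import Cfsg.Agent.Lib.helper3.SPM.Defs
import Cfsg.Agent.Lib.Helper27.STU.Defs
import Cfsg.Agent.Lib.Helper27.STU.Defs2
import Cfsg.Agent.Lib.Helper20.GLE.Defs

/-!
# Project GLO (designer helper20): the ODD gluing, block GLO-II of project PSU (S2291, architect helper27; the rank two group `SU₅(q)` is project SU5 of helper19 / helper3).
`SU_{2m+1}(q)`, `m ≥ 3`, has a presentation on `k + l` generators with `r + r₅ + 9 + 2 nb` relators (`8 + 2 nb` if `m = 3`), where `⟨k | r⟩` is any presentation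
of the symmetric group `S_m`, `⟨l | r₅⟩` any presentation of `SU₅(q)` and `nb` the number of generators of its subgroup `SU₃(q)` on the index `1` (`nb = 3`: `15` gluing relators).

ROW BY ROW PORT of project GLE (`Cfsg/Agent/Lib/Helper20/GLE/Defs.lean`, `SkelA.lean.txt`; all its rows are on main) to `od = True`: the rank two group is an ABSTRACT group `L`
with a generating system `S₂ : SysU F True (Fin 2) L` and an element `swL : L` acting as the transposition `(0 1)` (application: `L = SU₅(q)`, `S₂` the system of block MOD for `n = 5`).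
`lamC`, `lamP` (and the rows E1 `lamC_apply lamC_one lamC_mul`) of GLE are REUSED (they do not mention `S₂`); base points `Pts ι`, `pe`, `pe2`, `sgm`, `sn`, `sig2`, `ptsFin` and block A of SPM are REUSED.

DIFFERENCES with GLE:
* `Lam F True` is the Heisenberg group of the pairs `(v, c)`, `c + star c + v * star v = 0`; `B1 S₂` is a copy of `SU₃(q)` (it moves the anisotropic vector `d`), so the `LB k` do NOT commute with each other:
  the relation `hh` is a relation inside one pair (block I), and `LB_comm` is replaced by `LB_norm` (the long tori and Weyl elements of the index `i` normalise `LB k`);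
* the long tori `hl a ξ η` scale `e_a` by `r = ξ.c / η.c`, ANY non zero element of `F` (row Λ0 `exists_lam_ratio`), so there is NO `ζ`-doubling: every gluing relator is imposed for the parameter `1` only and
  spread by scaling alone (no additivity argument);
* the monomial data carry the coefficient `d0` on `d` (`d0h r = star r / r`, `d0l ξ = -(star ξ.c / ξ.c)`): `PMon` has the extra argument `d0`.
The `9 + 2 nb` gluing relators (`Glue`):
* `sw` (1): `ν (swap o0 o1) = lam swL`;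
* `stab1` (2 × nb): the stabiliser of `o1` in `S_m` centralises the `SU₃(q)` `B1` on the index `1` of `L`;
* `stab01` (2): the pointwise stabiliser of `o0 o1` centralises `x_{e₀ - e₁}(1)`;
* `d3` (nb): `x_{e₀ - e₁}(1)` commutes with the `SU₃(q)` on the index `o2`;
* `d4` (1, only if `m ≥ 4`): `[x_{e₀ - e₁}(1), x_{e₂ - e₃}(1)] = 1`;
* `c1` (1): `[x_{01}(1), x_{12}(1)] = x_{02}(1)`;  `c2` (1): `[x_{01}(1), x_{02}(1)] = 1`.
-/

set_option autoImplicit false

namespace Cfsg.Agent.Lib.Helper20.GLO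

open Cfsg.Agent.Lib.helper3.STC (ng ab)
open Cfsg.Agent.Lib.helper3.SPM (Pts pe sgm sn sig2 ptsFin pe2)
open Cfsg.Agent.Lib.Helper27.STU
open Cfsg.Agent.Lib.helper17.SLP (cm)
open Cfsg.Agent.Lib.Helper20.GLE (lamC lamP)

universe u v w x

/-! ## the rank two group -/

section Rank2

variable {F : Type u} [Field F] [StarRing F] {L : Type x} [Group L]

/-- the `SU₃(q)` on the index `1` of the rank two group. -/
def B1 (S₂ : SysU F True (Fin 2) L) : Subgroup L := S₂.XQ (fun a b => ab a = 1 ∧ ab b = 1)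

/-- `x_{e₀ - e₁}(t)` in the rank two group. -/
def uA (S₂ : SysU F True (Fin 2) L) (t : F) : L := S₂.xs (Sum.inl 0) (Sum.inl 1) t

/-- The facts on the rank two group used by the abstract side (block U derives `gen3` from the others). -/
structure UFacts (S₂ : SysU F True (Fin 2) L) (swL : L) : Prop where
  /-- `L` is generated by `x_{e₀ - e₁}(1)`, the permutation element and the `SU₃` on the index `1` -/
  gen3 : Subgroup.closure ({uA S₂ 1, swL} ∪ (B1 S₂ : Set L)) = ⊤
  /-- the permutation element permutes the root elements -/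
  sw_mon : S₂.IsMon swL (sgm (Equiv.swap 0 1)) (fun _ => 1) 1
  /-- `L` is generated by the root elements -/
  esp : S₂.XQ (fun _ _ => True) = ⊤
  /-- all Weyl and torus elements of `L` act monomially (STU M4 `hW_all`, H4 `hH_all`) -/
  hW : S₂.HW
  hH : S₂.HH

end Rank2

/-! ## root elements in an abstract group -/

section Roots

variable {F : Type u} [Field F] [StarRing F] {L : Type x} [Group L] {ι : Type w} [DecidableEq ι] {G : Type v} [Group G]

/-- the `SU₃(q)` on the index `k`. -/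
def LB (S₂ : SysU F True (Fin 2) L) (p : Pts ι) (ν : Equiv.Perm ι →* G) (lam : L →* G) (k : ι) : Subgroup G :=
  (B1 S₂).map (lamC ν lam (Equiv.swap p.o1 k))

/-- the short root element `x_{a b}(t)` (`ab a ≠ ab b`). -/
def xrs (S₂ : SysU F True (Fin 2) L) (p : Pts ι) (ν : Equiv.Perm ι →* G) (lam : L →* G) (a b : ι ⊕ ι) (t : F) : G :=
  lamC ν lam (sig2 p (ab a) (ab b)) (S₂.xs (sn a 0) (sn b 1) t)

/-- the long (half) root element `x_{a}(ξ)`. -/
def xrl (S₂ : SysU F True (Fin 2) L) (p : Pts ι) (ν : Equiv.Perm ι →* G) (lam : L →* G) (a : ι ⊕ ι) (ξ : Lam F True) : G :=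
  lamC ν lam (Equiv.swap p.o1 (ab a)) (S₂.xl (sn a 1) ξ)

/-- the long Weyl element `w_a(ξ)`. -/
def wrl (S₂ : SysU F True (Fin 2) L) (p : Pts ι) (ν : Equiv.Perm ι →* G) (lam : L →* G) (a : ι ⊕ ι) (ξ : Lam F True) : G :=
  xrl S₂ p ν lam a ξ * xrl S₂ p ν lam (ng a) (Lam.mu ξ) * xrl S₂ p ν lam a (Lam.nu ξ)

/-- the long torus element `h_a(ξ, η)`. -/
def hrl (S₂ : SysU F True (Fin 2) L) (p : Pts ι) (ν : Equiv.Perm ι →* G) (lam : L →* G) (a : ι ⊕ ι) (ξ η : Lam F True) : G :=
  wrl S₂ p ν lam a ξ * (wrl S₂ p ν lam a η)⁻¹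

/-- `g` acts monomially on the root elements `xrs`, `xrl` (the analogue of `SysU.IsMon` before the system is built). -/
def PMon (S₂ : SysU F True (Fin 2) L) (p : Pts ι) (ν : Equiv.Perm ι →* G) (lam : L →* G) (g : G) (π : Equiv.Perm (ι ⊕ ι))
    (d : ι ⊕ ι → F) (d0 : F) : Prop :=
  SysU.MonData π d d0 ∧
    (∀ a b, ab a ≠ ab b → ∀ t, g * xrs S₂ p ν lam a b t * g⁻¹ = xrs S₂ p ν lam (π a) (π b) (d a * (d b)⁻¹ * t)) ∧
    ∀ a ξ, g * xrl S₂ p ν lam a ξ * g⁻¹ = xrl S₂ p ν lam (π a) (Lam.act (d a * d0⁻¹) ξ)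

/-- The gluing hypotheses. -/
structure Glue (S₂ : SysU F True (Fin 2) L) (swL : L) (p : Pts ι) (ν : Equiv.Perm ι →* G) (lam : L →* G) : Prop where
  /-- the transposition `(o0 o1)` is the permutation element of `L` -/
  sw : ν (Equiv.swap p.o0 p.o1) = lam swL
  /-- the stabiliser of `o1` centralises the `SU₃` on the index `1` -/
  stab1 : ∀ σ : Equiv.Perm ι, σ p.o1 = p.o1 → ∀ g ∈ B1 S₂, ν σ * lam g * (ν σ)⁻¹ = lam g
  /-- the pointwise stabiliser of `o0 o1` centralises `x_{e₀ - e₁}(1)` -/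
  stab01 : ∀ σ : Equiv.Perm ι, σ p.o0 = p.o0 → σ p.o1 = p.o1 → ν σ * lam (uA S₂ 1) * (ν σ)⁻¹ = lam (uA S₂ 1)
  /-- `x_{e₀ - e₁}(1)` commutes with the `SU₃` on the index `o2` -/
  d3 : ∀ g ∈ B1 S₂, Commute (lam (uA S₂ 1)) (lamC ν lam (Equiv.swap p.o1 p.o2) g)
  /-- `[x_{e₀ - e₁}(1), x_{e₂ - e₃}(1)] = 1` -/
  d4 : ∀ x ∈ p.o3, Commute (lam (uA S₂ 1)) (lamC ν lam (Equiv.swap p.o0 p.o2 * Equiv.swap p.o1 x) (uA S₂ 1))
  /-- `[x_{01}(1), x_{12}(1)] = x_{02}(1)` -/
  c1 : cm (lam (uA S₂ 1)) (lamC ν lam (Equiv.swap p.o0 p.o1 * Equiv.swap p.o1 p.o2) (uA S₂ 1)) =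
      lamC ν lam (Equiv.swap p.o1 p.o2) (uA S₂ 1)
  /-- `[x_{01}(1), x_{02}(1)] = 1` -/
  c2 : Commute (lam (uA S₂ 1)) (lamC ν lam (Equiv.swap p.o1 p.o2) (uA S₂ 1))

/-- the family `[x_{ab}(t), x_{bc}(u)] = x_{ac}(t u)`. -/
def P1 (S₂ : SysU F True (Fin 2) L) (p : Pts ι) (ν : Equiv.Perm ι →* G) (lam : L →* G) (a b c : ι ⊕ ι) : Prop :=
  ∀ t u : F, cm (xrs S₂ p ν lam a b t) (xrs S₂ p ν lam b c u) = xrs S₂ p ν lam a c (t * u)

/-- the family `[x_{ab}(t), x_{ad}(u)] = 1`. -/
def P2 (S₂ : SysU F True (Fin 2) L) (p : Pts ι) (ν : Equiv.Perm ι →* G) (lam : L →* G) (a b d : ι ⊕ ι) : Prop :=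
  ∀ t u : F, Commute (xrs S₂ p ν lam a b t) (xrs S₂ p ν lam a d u)

/-- the family `[x_{ab}(t), x_{cd}(u)] = 1`. -/
def P4 (S₂ : SysU F True (Fin 2) L) (p : Pts ι) (ν : Equiv.Perm ι →* G) (lam : L →* G) (a b c d : ι ⊕ ι) : Prop :=
  ∀ t u : F, Commute (xrs S₂ p ν lam a b t) (xrs S₂ p ν lam c d u)

end Roots

end Cfsg.Agent.Lib.Helper20.GLO
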