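import Mathlib
import Cfsg.Agent.Lib.Helper20.GLO.Defs
import Cfsg.Agent.Lib.helper3.SPM.DefsP

/-!
# Project GLO: definitions for block P (presentations).  Words in `FreeGroup (Fin (k + l))`: the `k` generators of `S_m`, then the `l` generators of the rank two group `L`
(`l` is GENERIC here - in SPM / GLE it was `6`; `evN` of `helper3.SPM.DefsP` is REUSED for both factors: `evL g = evN g`).
-/

set_option autoImplicit false

namespace Cfsg.Agent.Lib.Helper20.GLO

open Cfsg.Agent.Lib.helper3.STC (ng ab)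
open Cfsg.Agent.Lib.helper3.SPM (Pts pe sgm sn sig2 ptsFin pe2 evN)
open Cfsg.Agent.Lib.Helper27.STU
open Cfsg.Agent.Lib.helper17.SLP (cm)
open Cfsg.Agent.Lib.Helper20.GLE (lamC lamP)

universe u v w x

section Words

variable {F : Type u} [Field F] [StarRing F] {L : Type x} [Group L] {ι : Type w} [DecidableEq ι] {k l : ℕ}

/-- the copy of `FreeGroup (Fin k)` on the first `k` generators. -/
def inN : FreeGroup (Fin k) →* FreeGroup (Fin (k + l)) := FreeGroup.map (Fin.castAdd l)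

/-- the copy of `FreeGroup (Fin l)` on the last `l` generators. -/
def inL : FreeGroup (Fin l) →* FreeGroup (Fin (k + l)) := FreeGroup.map (Fin.natAdd k)

/-- evaluation of a word of `FreeGroup (Fin (k + l))`. -/
def evG {G : Type v} [Group G] (s : Fin k → G) (g : Fin l → G) : FreeGroup (Fin (k + l)) →* G :=
  FreeGroup.lift (Fin.append s g)

/-- the word of `ν σ * lam g * (ν σ)⁻¹` (`wN`, `wL` = chosen words of the elements of `S_m`, `L`). -/
def Wc (wN : Equiv.Perm ι → FreeGroup (Fin k)) (wL : L → FreeGroup (Fin l)) (σ : Equiv.Perm ι) (g : L) :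
    FreeGroup (Fin (k + l)) :=
  inN (wN σ) * inL (wL g) * (inN (wN σ))⁻¹

/-- the `6 + 3 nb` (`5 + 3 nb` if there is no fourth index) gluing relators; `c d` generate the stabiliser of `o1`, `c' d'` the pointwise stabiliser of `o0 o1`,
the `b i` generate `B1 S₂`. -/
def wordsGlue (S₂ : SysU F True (Fin 2) L) (swL : L) (p : Pts ι) (wN : Equiv.Perm ι → FreeGroup (Fin k))
    (wL : L → FreeGroup (Fin l)) (c d c' d' : Equiv.Perm ι) {nb : ℕ} (b : Fin nb → L) : List (FreeGroup (Fin (k + l))) :=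
  [inN (wN (Equiv.swap p.o0 p.o1)) * (inL (wL swL))⁻¹] ++
  (List.ofFn fun i => cm (inN (wN c)) (inL (wL (b i)))) ++
  (List.ofFn fun i => cm (inN (wN d)) (inL (wL (b i)))) ++
  [cm (inN (wN c')) (inL (wL (uA S₂ 1))), cm (inN (wN d')) (inL (wL (uA S₂ 1)))] ++
  (List.ofFn fun i => cm (inL (wL (uA S₂ 1))) (Wc wN wL (Equiv.swap p.o1 p.o2) (b i))) ++
  (match p.o3 with
    | some x => [cm (inL (wL (uA S₂ 1))) (Wc wN wL (Equiv.swap p.o0 p.o2 * Equiv.swap p.o1 x) (uA S₂ 1))]
    | none => []) ++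
  [cm (inL (wL (uA S₂ 1))) (Wc wN wL (Equiv.swap p.o0 p.o1 * Equiv.swap p.o1 p.o2) (uA S₂ 1)) *
      (Wc wN wL (Equiv.swap p.o1 p.o2) (uA S₂ 1))⁻¹,
    cm (inL (wL (uA S₂ 1))) (Wc wN wL (Equiv.swap p.o1 p.o2) (uA S₂ 1))]

end Words

end Cfsg.Agent.Lib.Helper20.GLO
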