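import Mathlib
import Cfsg.Agent.Lib.Helper20.GLO.Defs
import Cfsg.Agent.Lib.Helper19.MOD.Defs

/-!
# Project GLO: definitions for block M (the matrix side of the ODD gluing, on helper19's model `Cfsg.Agent.Lib.Helper19.MOD.Ctx`)

`C : Ctx F n q m True` is a hyperbolic frame `C.fr : Fin m ⊕ Fin m → (Fin n → F)` of the FROZEN hermitian space (`n = 2 m + 1`) together with the anisotropic vector `C.dv`
(`B(dv, dv) = 1`, `dv ⊥ fr a`); `C₂ : Ctx F 5 q 2 True` is such a frame of the frozen space of dimension five.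

THE TRICK which makes block M of GLO a copy of block M of GLE: the EXTENDED frame `efr C : Option (Fin m ⊕ Fin m) → (Fin n → F)`, `none ↦ C.dv`, `some a ↦ C.fr a`, with the duality
`ngo = Option.map ng` (`ngo none = none`), satisfies EXACTLY the identities of the even frame: `B(efr i, efr j) = if j = ngo i then 1 else 0` and `x = Σ_j B(x, efr (ngo j)) • efr j`.
* `permMat C σ` is the matrix sending `efr C j` to `efr C (sgo σ j)` (`sgo σ = Equiv.optionCongr (sgm σ)`: it fixes `C.dv`); `nuM C : Equiv.Perm (Fin m) →* SU_n(q)` the corresponding homomorphism;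
* `embMat C C₂ p A` is the matrix acting as `A` (in the coordinates of the extended frame of `C₂`) on the span of `C.dv` and the `C.fr (pe p a')`, and trivially on the other frame vectors;
  `lamM C C₂ p : SU₅(q) →* SU_n(q)` the corresponding homomorphism.
-/

set_option autoImplicit false

namespace Cfsg.Agent.Lib.Helper20.GLO

open Matrix
open Cfsg.Agent.Lib.helper15.SUn (R)
open Cfsg.Agent.Lib.helper3.STC (ng ab)
open Cfsg.Agent.Lib.helper3.SPM (Pts pe sgm)
open Cfsg.Agent.Lib.Helper27.STU
open Cfsg.Agent.Lib.Helper19.MOD (Ctx)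

universe u w

section Idx

variable {ι : Type w}

/-- the duality on the extended signed indices (`none` is the index of the anisotropic vector). -/
def ngo : Option (ι ⊕ ι) → Option (ι ⊕ ι) := Option.map ng

/-- a permutation of the indices acting on the extended signed indices. -/
def sgo (σ : Equiv.Perm ι) : Equiv.Perm (Option (ι ⊕ ι)) := Equiv.optionCongr (sgm σ)

/-- the extended signed indices of the base points. -/
def peo [DecidableEq ι] (p : Pts ι) : Option (Fin 2 ⊕ Fin 2) → Option (ι ⊕ ι) := Option.map (pe p)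

end Idx

section M

variable {F : Type u} [Field F] [StarRing F] {n q m : ℕ}

/-- the extended frame: `none ↦ C.dv`, `some a ↦ C.fr a`. -/
def efr (C : Ctx F n q m True) : Option (Fin m ⊕ Fin m) → (Fin n → F)
  | none => C.dv
  | some a => C.fr a

/-- the extended coordinates: `eco C x j = B(x, efr C (ngo j))`. -/
def eco (C : Ctx F n q m True) (x : Fin n → F) (j : Option (Fin m ⊕ Fin m)) : F :=
  Cfsg.hermForm n F q x (efr C (ngo j))

/-- the matrix of `x ↦ Σ_j B(x, efr (ngo j)) • efr (sgo σ j)`: it sends `C.fr a` to `C.fr (sgm σ a)` and fixes `C.dv`. -/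
def permMat (C : Ctx F n q m True) (σ : Equiv.Perm (Fin m)) : Matrix (Fin n) (Fin n) F :=
  ∑ j : Option (Fin m ⊕ Fin m), R C.σ (efr C (sgo σ j)) (efr C (ngo j))

/-- the matrix acting as `A` (in the coordinates of the extended frame of `C₂`) on the span of `C.dv` and the `C.fr (pe p a')`, and fixing the other frame vectors. -/
def embMat (C : Ctx F n q m True) (C₂ : Ctx F 5 q 2 True) (p : Pts (Fin m)) (A : Matrix (Fin 5) (Fin 5) F) :
    Matrix (Fin n) (Fin n) F :=
  1 + ∑ a' : Option (Fin 2 ⊕ Fin 2), ∑ b' : Option (Fin 2 ⊕ Fin 2),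
    (eco C₂ (A *ᵥ efr C₂ a') b' - if b' = a' then 1 else 0) • R C.σ (efr C (peo p b')) (efr C (ngo (peo p a')))

open Classical in
/-- the permutations of the hyperbolic pairs as elements of `SU_n(q)` (row M4: `nuM_coe`). -/
noncomputable def nuM (C : Ctx F n q m True) : Equiv.Perm (Fin m) →* ↥(Cfsg.SU n F q) :=
  if h : ∃ φ : Equiv.Perm (Fin m) →* ↥(Cfsg.SU n F q), ∀ σ,
      ((φ σ : Matrix.SpecialLinearGroup (Fin n) F) : Matrix (Fin n) (Fin n) F) = permMat C σ
  then h.choose else 1

open Classical in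
/-- the block embedding `SU₅(q) → SU_n(q)` on the hyperbolic pairs `o0 o1` and the anisotropic vector (row M8: `lamM_coe`). -/
noncomputable def lamM (C : Ctx F n q m True) (C₂ : Ctx F 5 q 2 True) (p : Pts (Fin m)) :
    ↥(Cfsg.SU 5 F q) →* ↥(Cfsg.SU n F q) :=
  if h : ∃ φ : ↥(Cfsg.SU 5 F q) →* ↥(Cfsg.SU n F q), ∀ A : ↥(Cfsg.SU 5 F q),
      ((φ A : Matrix.SpecialLinearGroup (Fin n) F) : Matrix (Fin n) (Fin n) F) =
        embMat C C₂ p ((A : Matrix.SpecialLinearGroup (Fin 5) F) : Matrix (Fin 5) (Fin 5) F)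
  then h.choose else 1

end M

end Cfsg.Agent.Lib.Helper20.GLO
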